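import Groth.Agent.DimFormulaLib.LocalDim
import Mathlib.RingTheory.AlgebraicIndependent.AlgebraicClosure
import Mathlib.FieldTheory.IntermediateField.Adjoin.Basic
import Mathlib.RingTheory.LocalRing.ResidueField.Fiber

/-!
Ingredients for the stability of a bound on fibre dimensions under `a ↦ a ^ n + b`.
-/

set_option autoImplicit false

namespace Groth.Agent.PertFibLib

universe u

open Polynomial

theorem eval_sub_pow_ne_zero {A : Type*} [CommRing A] [IsDomain A] (c : A) (n : ℕ) (hn : 0 < n)
    (Q : A[X][X]) (hQ : ∀ j, (Q.coeff j).natDegree < n) (h0 : Q ≠ 0) :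
    Q.eval (C c - X ^ n) ≠ 0 := by
  have hu : (C c - X ^ n).natDegree = n := by
    rw [natDegree_sub_eq_right_of_natDegree_lt (by rw [natDegree_C, natDegree_X_pow]; exact hn),
      natDegree_X_pow]
  have hu0 : (C c - X ^ n) ≠ 0 := fun h => by rw [h, natDegree_zero] at hu; omega
  induction hd : Q.natDegree using Nat.strong_induction_on generalizing Q with
  | _ D ih =>
    intro he
    rw [← X_mul_divX_add Q, eval_add, eval_mul, eval_X, eval_C] at he
    have hdvd : (C c - X ^ n) ∣ Q.coeff 0 := ⟨-(Q.divX.eval _), by linear_combination he⟩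
    have hc0 : Q.coeff 0 = 0 := eq_zero_of_dvd_of_natDegree_lt hdvd (by rw [hu]; exact hQ 0)
    rw [hc0, add_zero, mul_eq_zero] at he
    have hq : Q.divX ≠ 0 := fun h => h0 (by rw [← X_mul_divX_add Q, h, hc0]; simp)
    have hlt : Q.divX.natDegree < D := by
      rw [natDegree_divX_eq_natDegree_tsub_one]
      have : Q.natDegree ≠ 0 := fun h => hq (by rw [eq_C_of_natDegree_eq_zero h, divX_C])
      omega
    exact ih _ hlt Q.divX (fun j => by rw [coeff_divX]; exact hQ _) hq rfl (he.resolve_left hu0)

theorem aeval_sub_pow_ne_zero {K A : Type u} [Field K] [Field A] [Algebra K A] {m : ℕ}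
    (y : Fin m → A) (a c : A) (hay : AlgebraicIndependent K (Fin.cons a y : Fin (m + 1) → A))
    (hc : IsAlgebraic K c) (n : ℕ) (P : MvPolynomial (Fin (m + 2)) K) (h0 : P ≠ 0)
    (hn : P.totalDegree < n) :
    MvPolynomial.aeval (Fin.cons (c - a ^ n) (Fin.cons a y) : Fin (m + 2) → A) P ≠ 0 := by
  classical
  let K0 := IntermediateField.adjoin K ({c} : Set A)
  haveI : Algebra.IsAlgebraic K K0 := IntermediateField.isAlgebraic_adjoin_simple hc.isIntegral
  have hay' : AlgebraicIndependent K0 (Fin.cons a y : Fin (m + 1) → A) := hay.extendScalars K0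
  let c0 : K0 := ⟨c, IntermediateField.mem_adjoin_simple_self K c⟩
  let P' : MvPolynomial (Fin (m + 2)) K0 := P.map (algebraMap K K0)
  have hP' : P' ≠ 0 := fun h => h0 (MvPolynomial.map_injective _ (algebraMap K K0).injective
    (h.trans (map_zero _).symm))
  have hdeg : P'.totalDegree ≤ P.totalDegree := by
    refine Finset.sup_mono ?_
    exact MvPolynomial.support_map_subset _ _
  rw [← MvPolynomial.aeval_map_algebraMap K0]
  let w : Fin (m + 2) → MvPolynomial (Fin (m + 1)) K0 :=
    Fin.cons (MvPolynomial.C c0 - MvPolynomial.X 0 ^ n) MvPolynomial.X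
  have hcomp : MvPolynomial.aeval (Fin.cons (c - a ^ n) (Fin.cons a y) : Fin (m + 2) → A) P' =
      MvPolynomial.aeval (Fin.cons a y : Fin (m + 1) → A) (MvPolynomial.aeval w P') := by
    rw [← AlgHom.comp_apply, MvPolynomial.comp_aeval]
    congr 2
    funext i
    refine Fin.cases ?_ (fun i => ?_) i
    · simp [w, c0]
    · simp [w]
  rw [hcomp]
  intro he
  have hw := hay'.eq_zero_of_aeval_eq_zero _ he
  let e := MvPolynomial.finSuccEquiv K0 m
  let Q : (MvPolynomial (Fin m) K0)[X][X] :=
    (MvPolynomial.finSuccEquiv K0 (m + 1) P').map (e : MvPolynomial (Fin (m + 1)) K0 →+* _)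
  let u : (MvPolynomial (Fin m) K0)[X] := C (MvPolynomial.C c0) - X ^ n
  have hQ : Q.eval u = e (MvPolynomial.aeval w P') := by
    have key : ((Polynomial.aeval u).restrictScalars K0).comp
        ((Polynomial.mapAlgHom e.toAlgHom).comp (MvPolynomial.finSuccEquiv K0 (m + 1)).toAlgHom) =
        e.toAlgHom.comp (MvPolynomial.aeval w) := by
      refine MvPolynomial.algHom_ext fun i => ?_
      refine Fin.cases ?_ (fun i => ?_) i
      · simp [w, u, e, MvPolynomial.finSuccEquiv_X_zero, map_sub, map_pow,
          MvPolynomial.algHom_C, -MvPolynomial.finSuccEquiv_apply]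
        simp [MvPolynomial.finSuccEquiv_apply]
      · simp [w, u, e, MvPolynomial.finSuccEquiv_apply]
    have := congrArg (fun φ => φ P') key
    simpa [Q, Polynomial.coe_aeval_eq_eval] using this
  refine eval_sub_pow_ne_zero (MvPolynomial.C c0) n (by omega) Q (fun j => ?_) ?_ ?_
  · rw [Polynomial.coeff_map]
    refine lt_of_le_of_lt ?_ (hdeg.trans_lt hn)
    change (e _).natDegree ≤ _
    rw [MvPolynomial.natDegree_finSuccEquiv]
    refine (MvPolynomial.degreeOf_le_totalDegree _ _).trans ?_
    by_cases hj : (MvPolynomial.finSuccEquiv K0 (m + 1) P').coeff j = 0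
    · rw [hj, MvPolynomial.totalDegree_zero]; exact Nat.zero_le _
    · exact le_trans (Nat.le_add_right _ j) (MvPolynomial.totalDegree_coeff_finSuccEquiv_add_le P' j hj)
  · intro h
    refine hP' ((MvPolynomial.finSuccEquiv K0 (m + 1)).injective ?_)
    rw [map_zero]
    refine Polynomial.map_injective (e : MvPolynomial (Fin (m + 1)) K0 →+* (MvPolynomial (Fin m) K0)[X]) (fun _ _ h => e.injective h) ?_
    rw [Polynomial.map_zero]
    exact h
  · exact hQ.trans (by rw [hw, map_zero])

/-- `FB φ d`: every chain of primes with constant image in the base has length at most `d`. -/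
def FB {A S : Type u} [CommRing A] [CommRing S] (φ : A →+* S) (d : ℕ) : Prop :=
  ∀ l : LTSeries (PrimeSpectrum S),
    (∀ i, PrimeSpectrum.comap φ (l i) = PrimeSpectrum.comap φ l.head) → l.length ≤ d

theorem fb_iff {A S : Type u} [CommRing A] [CommRing S] (φ : A →+* S) (d : ℕ) :
    FB φ d ↔ ∀ P : PrimeSpectrum A,
      letI := φ.toAlgebra; ringKrullDim (P.asIdeal.Fiber S) ≤ d := by
  letI := φ.toAlgebra
  constructor
  · intro h P
    rw [ringKrullDim, ← Order.krullDim_eq_of_orderIso (PrimeSpectrum.preimageOrderIsoFiber A S P)]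
    refine iSup_le fun l => ?_
    have := h (l.map Subtype.val fun _ _ hxy => hxy) fun i => by
      exact ((l i).2 : PrimeSpectrum.comap φ (l i).1 = P).trans (l.head.2).symm
    exact_mod_cast this
  · intro h l hl
    let P := PrimeSpectrum.comap φ l.head
    have hP := h P
    rw [ringKrullDim, ← Order.krullDim_eq_of_orderIso (PrimeSpectrum.preimageOrderIsoFiber A S P)] at hP
    let l' : LTSeries (PrimeSpectrum.comap (algebraMap A S) ⁻¹' {P}) :=
      LTSeries.mk l.length (fun i => ⟨l i, hl i⟩) fun i j hij => l.strictMono hij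
    have := (Order.LTSeries.length_le_krullDim l').trans hP
    exact_mod_cast this

theorem ringKrullDim_le_succ {k T : Type u} [Field k] [CommRing T] [Algebra k T] [IsNoetherianRing T]
    (a : T) (d : ℕ) (h : FB (Polynomial.aeval a : k[X] →ₐ[k] T).toRingHom d) :
    ringKrullDim T ≤ (d + 1 : ℕ) := by
  rw [ringKrullDim_le_iff_height_le]
  intro Q hQ
  let φ := (Polynomial.aeval a : k[X] →ₐ[k] T).toRingHom
  letI := φ.toAlgebra
  let p : Ideal k[X] := Q.under k[X]
  have hp : p.height ≤ 1 := by
    have := (Ideal.height_le_ringKrullDim_of_ne_top (I := p) (Ideal.IsPrime.ne_top inferInstance))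
    rw [Polynomial.ringKrullDim_of_isNoetherianRing, ringKrullDim_eq_zero_of_field, zero_add] at this
    exact_mod_cast this
  haveI : Q.LiesOver p := ⟨rfl⟩
  let q := Ideal.Quotient.mk (p.map (algebraMap k[X] T))
  have hle : p.map (algebraMap k[X] T) ≤ Q := Ideal.map_le_iff_le_comap.2 le_rfl
  haveI hQ' : (Q.map q).IsPrime :=
    Ideal.map_isPrime_of_surjective Ideal.Quotient.mk_surjective (by rw [Ideal.mk_ker]; exact hle)
  have h2 : (Q.map q).height ≤ d := by
    let x : PrimeSpectrum (T ⧸ p.map (algebraMap k[X] T)) := ⟨Q.map q, hQ'⟩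
    have hx : x.asIdeal.height = Order.height x := PrimeSpectrum.height_eq_orderHeight x
    refine le_of_eq_of_le hx (Order.height_le_iff.2 ?_)
    intro l hl
    have := h (l.map (PrimeSpectrum.comap q) fun x y hxy => by
      refine lt_of_le_of_ne (Ideal.comap_mono hxy.le) fun e => hxy.ne ?_
      exact PrimeSpectrum.comap_injective_of_surjective q Ideal.Quotient.mk_surjective e) fun i => by
      have key : ∀ i, PrimeSpectrum.comap φ (PrimeSpectrum.comap q (l i)) = ⟨p, inferInstance⟩ := by
        intro i
        refine PrimeSpectrum.ext (le_antisymm ?_ ?_)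
        · intro x hx
          have h3 : (l i).asIdeal ≤ Q.map q := (l.strictMono.monotone (Fin.le_last i)).trans hl
          have h4 : φ x ∈ (Q.map q).comap q := h3 hx
          rw [Ideal.comap_map_of_surjective q Ideal.Quotient.mk_surjective,
            ← RingHom.ker_eq_comap_bot, Ideal.mk_ker, sup_eq_left.2 hle] at h4
          exact h4
        · intro x hx
          have h0 : q (φ x) = 0 :=
            Ideal.Quotient.eq_zero_iff_mem.2 (Ideal.mem_map_of_mem (algebraMap k[X] T) hx)
          change q (φ x) ∈ (l i).asIdeal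
          rw [h0]
          exact zero_mem _
      exact (key i).trans (key 0).symm
    exact_mod_cast this
  have h3 : Q.height ≤ p.height + (Q.map q).height := Ideal.height_le_height_add_of_liesOver p Q
  have h4 : Q.height ≤ ((d + 1 : ℕ) : ℕ∞) := by
    refine h3.trans ((add_le_add hp h2).trans ?_)
    rw [Nat.cast_add, Nat.cast_one, add_comm]
  exact_mod_cast h4

end Groth.Agent.PertFibLib
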